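import Groth.Agent.FlatLib.Descent
import Groth.Agent.FittPrincipalLib.Strict
import Groth.Agent.S4848
import Groth.Agent.S0405
import Groth.Prelude.Def_FlatCA
import Mathlib

/-!
# Strict transforms become flat at a finite stage below a valuation ring
-/

set_option autoImplicit false
set_option linter.style.haveILetI false
set_option synthInstance.maxHeartbeats 100000

universe u

open scoped TensorProduct
open FlatLib

attribute [local instance] MvPolynomial.algebraMvPolynomial

namespace BlowFlatLib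

/-- Base change of a quotient of a finite free module. -/
theorem exists_tensor_quotient_equiv {C D : Type u} [CommRing C] [CommRing D] [Algebra C D] {n : ℕ} {ι : Type*}
    (w : ι → (Fin n → C)) :
    ∃ e : D ⊗[C] ((Fin n → C) ⧸ Submodule.span C (Set.range w)) ≃ₗ[D]
        ((Fin n → D) ⧸ Submodule.span D (Set.range fun l => algebraMap C D ∘ w l)),
      ∀ x : Fin n → C, e ((1 : D) ⊗ₜ Submodule.Quotient.mk x) = Submodule.Quotient.mk (algebraMap C D ∘ x) := by
  classical
  let X := (Fin n → C) ⧸ Submodule.span C (Set.range w)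
  let L := Submodule.span D (Set.range fun l => algebraMap C D ∘ w l)
  let μ : (Fin n → C) →ₗ[C] (Fin n → D) := LinearMap.pi fun k => Algebra.linearMap C D ∘ₗ LinearMap.proj k
  have hμ : ∀ x, μ x = algebraMap C D ∘ x := fun x => rfl
  let g : X →ₗ[C] (Fin n → D) ⧸ L :=
    (Submodule.span C (Set.range w)).liftQ ((L.mkQ.restrictScalars C).comp μ) (by
      rw [Submodule.span_le]
      rintro _ ⟨l, rfl⟩
      exact (Submodule.Quotient.mk_eq_zero _).2 (Submodule.subset_span ⟨l, rfl⟩))
  let G : D ⊗[C] X →ₗ[D] (Fin n → D) ⧸ L := g.liftBaseChange D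
  let Φ : (Fin n → D) →ₗ[D] D ⊗[C] X :=
    Fintype.linearCombination D fun k => (1 : D) ⊗ₜ[C] (Submodule.Quotient.mk (Pi.single k 1) : X)
  have hΦμ : ∀ x : Fin n → C, Φ (algebraMap C D ∘ x) = (1 : D) ⊗ₜ[C] (Submodule.Quotient.mk x : X) := fun x => by
    rw [Fintype.linearCombination_apply]
    simp only [Function.comp_apply, algebraMap_smul, ← TensorProduct.tmul_smul, ← Submodule.Quotient.mk_smul,
      ← TensorProduct.tmul_sum]
    congr 1
    conv_rhs => rw [pi_eq_sum_univ' x]
    rw [← Submodule.mkQ_apply, map_sum]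
    exact Finset.sum_congr rfl fun k _ => (Submodule.Quotient.mk_smul _ _ _).trans rfl
  have hΦL : L ≤ LinearMap.ker Φ := by
    rw [Submodule.span_le]
    rintro _ ⟨l, rfl⟩
    show Φ (algebraMap C D ∘ w l) = 0
    rw [hΦμ, show (Submodule.Quotient.mk (w l) : X) = 0 from
      (Submodule.Quotient.mk_eq_zero _).2 (Submodule.subset_span ⟨l, rfl⟩), TensorProduct.tmul_zero]
  have hG : ∀ x : Fin n → C, G ((1 : D) ⊗ₜ Submodule.Quotient.mk x) = Submodule.Quotient.mk (algebraMap C D ∘ x) :=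
    fun x => by
      show g.liftBaseChange D _ = _
      rw [LinearMap.liftBaseChange_tmul, one_smul]
      rfl
  have h1 : (L.liftQ Φ hΦL).comp G = LinearMap.id := by
    refine TensorProduct.AlgebraTensorModule.ext fun d z => ?_
    obtain ⟨x, rfl⟩ := Submodule.Quotient.mk_surjective _ z
    rw [show d ⊗ₜ[C] (Submodule.Quotient.mk x : X) = d • ((1 : D) ⊗ₜ[C] (Submodule.Quotient.mk x : X)) by
      rw [TensorProduct.smul_tmul', smul_eq_mul, mul_one], map_smul, LinearMap.comp_apply, hG, Submodule.liftQ_apply,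
      hΦμ]
    rfl
  have h2 : G.comp (L.liftQ Φ hΦL) = LinearMap.id := by
    refine Submodule.linearMap_qext _ (LinearMap.pi_ext' fun k => LinearMap.ext_ring ?_)
    show G (Φ (Pi.single k 1)) = Submodule.Quotient.mk (Pi.single k 1)
    have e : (Pi.single k 1 : Fin n → D) = algebraMap C D ∘ (Pi.single k 1 : Fin n → C) := funext fun i => by
      rcases eq_or_ne i k with rfl | h <;> simp [*]
    rw [e, hΦμ, hG]
  exact ⟨LinearEquiv.ofLinear G (L.liftQ Φ hΦL) h2 h1, hG⟩

/-- The map from a free module onto a base change. -/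
noncomputable def free (σ R : Type u) [CommRing R] (M : Type u) [AddCommGroup M] [Module (MvPolynomial σ R) M]
    {n : ℕ} (m : Fin n → M) (C : Type u) [CommRing C] [Algebra R C] :
    (Fin n → MvPolynomial σ C) →ₗ[MvPolynomial σ C] BC σ R M C :=
  Fintype.linearCombination (MvPolynomial σ C) fun k => (1 : MvPolynomial σ C) ⊗ₜ[MvPolynomial σ R] m k

variable {σ R : Type u} [CommRing R] {M : Type u} [AddCommGroup M] [Module (MvPolynomial σ R) M] {n : ℕ}
  (m : Fin n → M)

theorem free_surjective (hm : Submodule.span (MvPolynomial σ R) (Set.range m) = ⊤) (C : Type u) [CommRing C]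
    [Algebra R C] : Function.Surjective (free σ R M m C) := fun z => by
  induction z using TensorProduct.induction_on with
  | zero => exact ⟨0, map_zero _⟩
  | add a b ha hb =>
    obtain ⟨x, rfl⟩ := ha
    obtain ⟨y, rfl⟩ := hb
    exact ⟨x + y, map_add _ _ _⟩
  | tmul c x =>
    have hx : x ∈ Submodule.span (MvPolynomial σ R) (Set.range m) := hm ▸ Submodule.mem_top
    obtain ⟨p, rfl⟩ := (Submodule.mem_span_range_iff_exists_fun _).1 hx
    refine ⟨fun k => p k • c, ?_⟩
    rw [free, Fintype.linearCombination_apply, TensorProduct.tmul_sum]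
    exact Finset.sum_congr rfl fun k _ => by rw [TensorProduct.smul_tmul', smul_eq_mul, mul_one, TensorProduct.smul_tmul]

variable [Module R M] [IsScalarTower R (MvPolynomial σ R) M]

theorem bcMap_free {C D : Type u} [CommRing C] [CommRing D] [Algebra R C] [Algebra R D] (φ : C →ₐ[R] D)
    (x : Fin n → MvPolynomial σ C) :
    bcMap σ M φ (free σ R M m C x) = free σ R M m D (MvPolynomial.map φ.toRingHom ∘ x) := by
  rw [free, free, Fintype.linearCombination_apply, Fintype.linearCombination_apply, map_sum]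
  refine Finset.sum_congr rfl fun k _ => ?_
  rw [bcMap_smul]
  exact congrArg (MvPolynomial.map φ.toRingHom (x k) • ·) (bcMap_inc σ M φ (m k))

theorem equiv_rTensor {C D : Type u} [CommRing C] [CommRing D] [Algebra R C] [Algebra R D] (φ : C →ₐ[R] D)
    (t : C ⊗[R] M) :
    bcMap σ M φ ((isBaseChange_inc σ R M C).equiv t) = (isBaseChange_inc σ R M D).equiv (φ.toLinearMap.rTensor M t) := by
  induction t using TensorProduct.induction_on with
  | zero => rw [map_zero, map_zero, map_zero]; exact (bcMap σ M φ).map_zero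
  | add a b ha hb => simp only [map_add, ha, hb]
  | tmul c x =>
    rw [IsBaseChange.equiv_tmul, LinearMap.rTensor_tmul, IsBaseChange.equiv_tmul, LinearMap.map_smulₛₗ, bcMap_inc]
    rfl

set_option maxHeartbeats 1600000 in
/-- A finite module over a polynomial ring over a domain, base changed to a valuation ring over it with a
dense image, has torsion-free quotient which is reached at a finite stage. -/
theorem exists_flat_stage [Finite σ] [Module.Finite (MvPolynomial σ R) M] {A : Type u} [CommRing A] [IsDomain A]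
    [ValuationRing A] [Algebra R A] (hfrac : ∀ c : A, c ≠ 0 → ∃ p : R, p ≠ 0 ∧ ∃ q : A, q * c = algebraMap R A p)
    (hinj : Function.Injective (algebraMap R A)) :
    ∃ B : Subalgebra R A, B.FG ∧ ∃ r : R, r ≠ 0 ∧ ∀ (R₁ : Type u) [CommRing R₁] [Algebra R R₁] (j : R₁ →ₐ[R] A),
      Function.Injective j → B ≤ j.range → ∀ a : R, r ∣ a → a ≠ 0 →
        Module.Flat R₁ (BC σ R M R₁ ⧸ FlatCA.powTorsion (MvPolynomial σ R₁)
            (MvPolynomial.C (algebraMap R R₁ a)) (BC σ R M R₁)) ∧
          Module.FinitePresentation (MvPolynomial σ R₁) (BC σ R M R₁ ⧸ FlatCA.powTorsion (MvPolynomial σ R₁)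
            (MvPolynomial.C (algebraMap R R₁ a)) (BC σ R M R₁)) := by
  classical
  haveI : IsDomain R := hinj.isDomain
  obtain ⟨n, π, hπ⟩ := Module.Finite.exists_fin' (MvPolynomial σ R) M
  let m : Fin n → M := fun k => π (Pi.single k 1)
  have hm : Submodule.span (MvPolynomial σ R) (Set.range m) = ⊤ := by
    refine eq_top_iff.2 fun y _ => ?_
    obtain ⟨x, rfl⟩ := hπ y
    rw [pi_eq_sum_univ' x, map_sum]
    exact Submodule.sum_mem _ fun k _ => by
      rw [map_smul]
      exact Submodule.smul_mem _ _ (Submodule.subset_span ⟨k, rfl⟩)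
  -- the torsion-free quotient over the valuation ring
  let MA := BC σ R M A
  let Tor : Submodule (MvPolynomial σ A) MA :=
    { carrier := {x | ∃ c : A, c ≠ 0 ∧ MvPolynomial.C (σ := σ) c • x = 0}
      zero_mem' := ⟨1, one_ne_zero, smul_zero _⟩
      add_mem' := by
        rintro x y ⟨c, hc, hcx⟩ ⟨d, hd, hdy⟩
        exact ⟨c * d, mul_ne_zero hc hd, by rw [map_mul, smul_add, mul_smul, mul_smul, hdy, smul_zero, add_zero, smul_comm, hcx, smul_zero]⟩
      smul_mem' := by
        rintro p x ⟨c, hc, hcx⟩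
        exact ⟨c, hc, by rw [smul_comm, hcx, smul_zero]⟩ }
  haveI : Module.Flat A (MA ⧸ Tor) := by
    refine Module.Flat.flat_iff_torsion_eq_bot_of_isBezout.2 (eq_bot_iff.2 ?_)
    rintro z ⟨⟨c, hc⟩, hcz⟩
    obtain ⟨x, rfl⟩ := Submodule.Quotient.mk_surjective _ z
    have hcz' : c • (Submodule.Quotient.mk x : MA ⧸ Tor) = 0 := hcz
    rw [← Submodule.Quotient.mk_smul, Submodule.Quotient.mk_eq_zero] at hcz'
    obtain ⟨d, hd, hdx⟩ := hcz'
    rw [Submodule.mem_bot, Submodule.Quotient.mk_eq_zero]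
    refine ⟨d * c, mul_ne_zero hd (nonZeroDivisors.ne_zero hc), ?_⟩
    rw [map_mul, mul_smul, ← MvPolynomial.algebraMap_eq, algebraMap_smul (MvPolynomial σ A) c x,
      MvPolynomial.algebraMap_eq]
    exact hdx
  let ρA : (Fin n → MvPolynomial σ A) →ₗ[MvPolynomial σ A] MA ⧸ Tor := Tor.mkQ ∘ₗ free σ R M m A
  have hρA : Function.Surjective ρA := (Submodule.mkQ_surjective _).comp (free_surjective m hm A)
  haveI : Module.Finite (MvPolynomial σ A) (MA ⧸ Tor) := Module.Finite.of_surjective ρA hρA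
  haveI : Module.FinitePresentation (MvPolynomial σ A) (MA ⧸ Tor) := Groth.Agent.S0405.result (R := A)
  obtain ⟨V, hV⟩ := Module.FinitePresentation.fg_ker ρA hρA
  -- coefficients
  let F₀ : Finset A := V.biUnion fun v => Finset.univ.biUnion fun k => (v k).support.image fun d => (v k).coeff d
  let B₁ : Subalgebra R A := Algebra.adjoin R (F₀ : Set A)
  have hB₁ : B₁.FG := Subalgebra.fg_adjoin_finset _
  have hw : ∀ v : V, ∃ w : Fin n → MvPolynomial σ B₁, MvPolynomial.map (B₁.val : B₁ →+* A) ∘ w = v.1 := by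
    intro v
    have : ∀ k, ∃ w : MvPolynomial σ B₁, MvPolynomial.map (B₁.val : B₁ →+* A) w = v.1 k := fun k => by
      refine RingHom.mem_range.1 (MvPolynomial.mem_range_map_iff_coeffs_subset.2 fun c hc => ?_)
      obtain ⟨d, hd, rfl⟩ := MvPolynomial.mem_coeffs_iff.1 hc
      exact ⟨⟨_, Algebra.subset_adjoin (Finset.mem_biUnion.2 ⟨v.1, v.2, Finset.mem_biUnion.2
        ⟨k, Finset.mem_univ _, Finset.mem_image_of_mem _ hd⟩⟩)⟩, rfl⟩
    choose w hw using this
    exact ⟨w, funext hw⟩
  choose w hw using hw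
  -- torsion witnesses
  have hp : ∀ v : V, ∃ p : R, p ≠ 0 ∧ ∃ B' : Subalgebra R A, B'.FG ∧ ∃ h : B₁ ≤ B',
      MvPolynomial.C (σ := σ) (algebraMap R B' p) • free σ R M m B' (MvPolynomial.map (Subalgebra.inclusion h).toRingHom ∘ w v) = 0 := by
    intro v
    have hvk : v.1 ∈ LinearMap.ker ρA := hV ▸ Submodule.subset_span v.2
    obtain ⟨c, hc, hcv⟩ := (Submodule.Quotient.mk_eq_zero _).1 (LinearMap.mem_ker.1 hvk)
    obtain ⟨p, hp, q, hq⟩ := hfrac c hc
    refine ⟨p, hp, ?_⟩
    let eB := (isBaseChange_inc σ R M B₁).equiv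
    let t := eB.symm (MvPolynomial.C (σ := σ) (algebraMap R B₁ p) • free σ R M m B₁ (w v))
    have ht : B₁.val.toLinearMap.rTensor M t = 0 := by
      apply (isBaseChange_inc σ R M A).equiv.injective
      rw [← equiv_rTensor, map_zero, LinearEquiv.apply_symm_apply, bcMap_smul, bcMap_free]
      show MvPolynomial.map (B₁.val : B₁ →+* A) (MvPolynomial.C (algebraMap R B₁ p)) •
        free σ R M m A (MvPolynomial.map (B₁.val : B₁ →+* A) ∘ w v) = 0
      rw [hw, MvPolynomial.map_C, show (B₁.val : B₁ →+* A) (algebraMap R B₁ p) = algebraMap R A p from rfl, ← hq,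
        map_mul, mul_smul]
      exact (congrArg (MvPolynomial.C q • ·) hcv).trans (smul_zero _)
    obtain ⟨B', hle, hB', heq⟩ := TensorProduct.Algebra.eq_of_fg_of_subtype_eq hB₁ (t := t) (t' := 0)
      (by rw [ht, map_zero])
    refine ⟨B', hB', hle, ?_⟩
    have h1 := congrArg (isBaseChange_inc σ R M B').equiv heq
    rw [map_zero, map_zero, ← equiv_rTensor, LinearEquiv.apply_symm_apply, bcMap_smul, bcMap_free] at h1
    rw [show MvPolynomial.C (σ := σ) (algebraMap R B' p) =
      MvPolynomial.map (Subalgebra.inclusion hle).toRingHom (MvPolynomial.C (algebraMap R B₁ p)) from by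
        rw [MvPolynomial.map_C]; rfl]
    exact h1
  choose p hp B' hB' hle hkill using hp
  -- flatness at a stage
  let A₀ := B₁
  let M₀ := (Fin n → MvPolynomial σ A₀) ⧸ Submodule.span (MvPolynomial σ A₀) (Set.range w)
  haveI : Module.FinitePresentation (MvPolynomial σ A₀) M₀ :=
    Module.finitePresentation_of_surjective _ (Submodule.mkQ_surjective _)
      (by rw [Submodule.ker_mkQ]; exact Submodule.fg_span (Set.finite_range w))
  have hrange : Set.range (fun v => algebraMap (MvPolynomial σ A₀) (MvPolynomial σ A) ∘ w v) = (V : Set _) := by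
    ext x
    constructor
    · rintro ⟨v, rfl⟩
      show MvPolynomial.map (B₁.val : B₁ →+* A) ∘ w v ∈ (V : Set _)
      rw [hw]
      exact v.2
    · intro hx
      exact ⟨⟨x, hx⟩, hw _⟩
  haveI : Module.Flat A (A ⊗[A₀] M₀) := by
    obtain ⟨e, -⟩ := exists_tensor_quotient_equiv (D := MvPolynomial σ A) w
    rw [hrange, hV] at e
    let e' : A ⊗[A₀] M₀ ≃ₗ[A] MA ⧸ Tor := (isBaseChange_inc σ A₀ M₀ A).equiv ≪≫ₗ e.restrictScalars A ≪≫ₗ
      (LinearMap.quotKerEquivOfSurjective ρA hρA).restrictScalars A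
    exact Module.Flat.of_linearEquiv e'
  let ι := {B : Subalgebra R A // B.FG ∧ B₁ ≤ B}
  letI algG : ∀ i : ι, Algebra A₀ i.1 := fun i => (Subalgebra.inclusion i.2.2).toRingHom.toAlgebra
  haveI : ∀ i : ι, IsScalarTower A₀ i.1 A := fun i => IsScalarTower.of_algebraMap_eq fun _ => rfl
  let gs : ∀ i k : ι, i ≤ k → i.1 →ₐ[A₀] k.1 := fun i k h =>
    { (Subalgebra.inclusion (show i.1 ≤ k.1 from h)).toRingHom with commutes' := fun _ => rfl }
  have hcolim : FlatCA.IsDirectedColimitRing (fun i : ι => ↥i.1) (fun i k h => (gs i k h).toRingHom) A := by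
    refine ⟨⟨fun i k => ⟨⟨i.1 ⊔ k.1, Subalgebra.FG.sup i.2.1 k.2.1, i.2.2.trans le_sup_left⟩, (le_sup_left : i.1 ≤ _), (le_sup_right : k.1 ≤ _)⟩⟩,
      ⟨⟨B₁, hB₁, le_rfl⟩⟩, fun _ => RingHom.ext fun _ => rfl, fun _ _ _ _ _ => RingHom.ext fun _ => rfl,
      fun _ _ _ => RingHom.ext fun _ => rfl, fun a => ?_, fun i x hx => ⟨i, le_rfl, Subtype.ext hx⟩⟩
    exact ⟨⟨B₁ ⊔ Algebra.adjoin R {a}, Subalgebra.FG.sup hB₁ (by rw [← Finset.coe_singleton]; exact Subalgebra.fg_adjoin_finset _), le_sup_left⟩,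
      ⟨a, (le_sup_right : Algebra.adjoin R {a} ≤ B₁ ⊔ _) (Algebra.subset_adjoin rfl)⟩, rfl⟩
  obtain ⟨i₂, hi₂⟩ := (Groth.Agent.S4848.result (A₀ := A₀) (fun i : ι => ↥i.1) gs A hcolim
    (B₀ := MvPolynomial σ A₀) M₀).1 inferInstance
  let B : Subalgebra R A := i₂.1 ⊔ Finset.univ.sup B'
  refine ⟨B, Subalgebra.FG.sup i₂.2.1 ?_, ∏ v, p v, Finset.prod_ne_zero_iff.2 fun v _ => hp v, ?_⟩
  · exact Finset.sup_induction (p := fun S : Subalgebra R A => S.FG) Subalgebra.fg_bot
      (fun _ h _ h' => Subalgebra.FG.sup h h') fun v _ => hB' v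
  intro R₁ _ _ j hj hBj a ha ha0
  haveI : IsDomain R₁ := hj.isDomain
  letI : Algebra R₁ A := j.toRingHom.toAlgebra
  let e₁ := AlgEquiv.ofInjective j hj
  have hθ : ∀ (C : Subalgebra R A) (hC : C ≤ B), ∃ θ : C →ₐ[R] R₁, ∀ x, j (θ x) = x := fun C hC =>
    ⟨e₁.symm.toAlgHom.comp (Subalgebra.inclusion (hC.trans hBj)), fun x =>
      congrArg Subtype.val (e₁.apply_symm_apply (Subalgebra.inclusion (hC.trans hBj) x))⟩
  obtain ⟨θ₂, hθ₂⟩ := hθ i₂.1 le_sup_left
  let θ₁ : A₀ →ₐ[R] R₁ := θ₂.comp (Subalgebra.inclusion i₂.2.2)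
  letI : Algebra A₀ R₁ := θ₁.toRingHom.toAlgebra
  letI : Algebra i₂.1 R₁ := θ₂.toRingHom.toAlgebra
  haveI : IsScalarTower A₀ i₂.1 R₁ := IsScalarTower.of_algebraMap_eq fun _ => rfl
  haveI : IsScalarTower A₀ R₁ A := IsScalarTower.of_algebraMap_eq fun x =>
    (hθ₂ (Subalgebra.inclusion i₂.2.2 x)).symm
  let w₁ : V → (Fin n → MvPolynomial σ R₁) := fun v => algebraMap (MvPolynomial σ A₀) (MvPolynomial σ R₁) ∘ w v
  let L₁ := Submodule.span (MvPolynomial σ R₁) (Set.range w₁)
  let U := (Fin n → MvPolynomial σ R₁) ⧸ L₁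
  haveI hU : Module.Flat R₁ U := by
    haveI : Module.Flat i₂.1 (i₂.1 ⊗[A₀] M₀) := hi₂
    haveI : Module.Flat R₁ (R₁ ⊗[A₀] M₀) := Module.Flat.of_linearEquiv
      (TensorProduct.AlgebraTensorModule.cancelBaseChange A₀ i₂.1 R₁ R₁ M₀).symm
    obtain ⟨e, -⟩ := exists_tensor_quotient_equiv (D := MvPolynomial σ R₁) w
    let e' : R₁ ⊗[A₀] M₀ ≃ₗ[R₁] U := (isBaseChange_inc σ A₀ M₀ R₁).equiv ≪≫ₗ e.restrictScalars R₁
    exact Module.Flat.of_linearEquiv e'.symm
  have hback : ∀ z : Fin n → MvPolynomial σ R₁,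
      MvPolynomial.map j.toRingHom ∘ z ∈ LinearMap.ker ρA → z ∈ L₁ := by
    intro z hz
    obtain ⟨e, he⟩ := exists_tensor_quotient_equiv (D := MvPolynomial σ A) w₁
    have h1 : e ((1 : MvPolynomial σ A) ⊗ₜ (Submodule.Quotient.mk z : U)) = 0 := by
      rw [he, Submodule.Quotient.mk_eq_zero]
      have : (fun v => algebraMap (MvPolynomial σ R₁) (MvPolynomial σ A) ∘ w₁ v) =
          fun v => algebraMap (MvPolynomial σ A₀) (MvPolynomial σ A) ∘ w v := funext fun v => funext fun k => by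
        show MvPolynomial.map _ (MvPolynomial.map _ (w v k)) = MvPolynomial.map _ (w v k)
        rw [MvPolynomial.map_map, ← IsScalarTower.algebraMap_eq]
      rw [this, hrange, hV]
      exact hz
    have h2 : (1 : MvPolynomial σ A) ⊗ₜ[MvPolynomial σ R₁] (Submodule.Quotient.mk z : U) = 0 :=
      e.injective (h1.trans e.map_zero.symm)
    have h3 : (1 : A) ⊗ₜ[R₁] (Submodule.Quotient.mk z : U) = 0 := by
      have := congrArg (Algebra.IsPushout.cancelBaseChange R₁ A (MvPolynomial σ R₁) (MvPolynomial σ A) U) h2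
      rwa [map_zero, Algebra.IsPushout.cancelBaseChange_tmul] at this
    have h4 : Function.Injective ((Algebra.linearMap R₁ A).rTensor U) :=
      Module.Flat.rTensor_preserves_injective_linearMap _ hj
    have h5 : (1 : R₁) ⊗ₜ[R₁] (Submodule.Quotient.mk z : U) = 0 :=
      h4 (by rw [LinearMap.rTensor_tmul, map_zero, Algebra.linearMap_apply, map_one]; exact h3)
    have h6 := congrArg (TensorProduct.lid R₁ U) h5
    rw [TensorProduct.lid_tmul, one_smul, map_zero, Submodule.Quotient.mk_eq_zero] at h6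
    exact h6
  let a₁ := MvPolynomial.C (σ := σ) (algebraMap R R₁ a)
  let T₁ := FlatCA.powTorsion (MvPolynomial σ R₁) a₁ (BC σ R M R₁)
  have hja : j (algebraMap R R₁ a) ≠ 0 := by
    rw [j.commutes]
    exact (map_ne_zero_iff _ hinj).2 ha0
  have hker : LinearMap.ker (T₁.mkQ ∘ₗ free σ R M m R₁) = L₁ := by
    refine le_antisymm (fun z hz => hback z ?_) (Submodule.span_le.2 ?_)
    · obtain ⟨k, hk⟩ := Groth.Agent.FittPrincipalLib.mem_powTorsion.1
        ((Submodule.Quotient.mk_eq_zero _).1 (LinearMap.mem_ker.1 hz))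
      have h1 := congrArg (bcMap σ M j) hk
      rw [bcMap_smul, bcMap_free, map_zero] at h1
      refine LinearMap.mem_ker.2 ((Submodule.Quotient.mk_eq_zero _).2 ⟨j (algebraMap R R₁ a) ^ k, pow_ne_zero _ hja, ?_⟩)
      change MvPolynomial.map j.toRingHom (a₁ ^ k) • _ = _ at h1
      rw [map_pow, MvPolynomial.map_C, ← map_pow] at h1
      exact h1
    · rintro _ ⟨v, rfl⟩
      refine LinearMap.mem_ker.2 ((Submodule.Quotient.mk_eq_zero _).2 (Groth.Agent.FittPrincipalLib.mem_powTorsion.2 ⟨1, ?_⟩))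
      obtain ⟨θ', hθ'⟩ := hθ (B' v) (le_sup_of_le_right (Finset.le_sup (Finset.mem_univ v)))
      obtain ⟨b, hb⟩ := (Finset.dvd_prod_of_mem p (Finset.mem_univ v)).trans ha
      have h1 := congrArg (bcMap σ M θ') (hkill v)
      rw [bcMap_smul, bcMap_free, map_zero] at h1
      change MvPolynomial.map θ'.toRingHom (MvPolynomial.C (algebraMap R (B' v) (p v))) • _ = _ at h1
      rw [MvPolynomial.map_C, show θ'.toRingHom (algebraMap R (B' v) (p v)) = algebraMap R R₁ (p v) from θ'.commutes _] at h1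
      have e : MvPolynomial.map θ'.toRingHom ∘ (MvPolynomial.map (Subalgebra.inclusion (hle v)).toRingHom ∘ w v) = w₁ v := by
        funext k
        show MvPolynomial.map _ (MvPolynomial.map _ (w v k)) = MvPolynomial.map (algebraMap A₀ R₁) (w v k)
        rw [MvPolynomial.map_map]
        refine congrArg (fun f => MvPolynomial.map f (w v k)) (RingHom.ext fun x => hj ?_)
        exact (hθ' _).trans (hθ₂ (Subalgebra.inclusion i₂.2.2 x)).symm
      rw [e] at h1
      show MvPolynomial.C (σ := σ) (algebraMap R R₁ a) ^ 1 • _ = (0 : BC σ R M R₁)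
      rw [pow_one, hb, map_mul, map_mul, mul_comm, mul_smul, h1, smul_zero]
  let eQ : U ≃ₗ[MvPolynomial σ R₁] BC σ R M R₁ ⧸ T₁ := Submodule.quotEquivOfEq _ _ hker.symm ≪≫ₗ
    LinearMap.quotKerEquivOfSurjective _ ((Submodule.mkQ_surjective _).comp (free_surjective m hm R₁))
  haveI : Module.FinitePresentation (MvPolynomial σ R₁) U :=
    Module.finitePresentation_of_surjective _ (Submodule.mkQ_surjective _)
      (by rw [Submodule.ker_mkQ]; exact Submodule.fg_span (Set.finite_range w₁))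
  exact ⟨Module.Flat.of_linearEquiv (eQ.restrictScalars R₁).symm, Module.FinitePresentation.of_equiv eQ⟩

end BlowFlatLib
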